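/-
Algebra behind pointwise functions on normal Noetherian affine schemes.
-/
import Mathlib
import Groth.Agent.DVRCrit.Field

set_option autoImplicit false
set_option linter.style.haveILetI false

universe u

open Polynomial IsLocalRing

namespace Groth.Agent.PtFunNormal

variable {A : Type u} [CommRing A] [IsNoetherianRing A]

/-- A specialization is realized by a discrete valuation ring. -/
theorem exists_dvr_specialization (p y : Ideal A) [p.IsPrime] [y.IsPrime] (hlt : p < y) :
    ∃ (R : Type u) (_ : CommRing R) (_ : IsDomain R) (_ : IsDiscreteValuationRing R) (φ : A →+* R),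
      RingHom.ker φ = p ∧ (maximalIdeal R).comap φ = y := by
  let B := A ⧸ p
  let Q : Ideal B := y.map (Ideal.Quotient.mk p)
  haveI : Q.IsPrime :=
    Ideal.map_isPrime_of_surjective Ideal.Quotient.mk_surjective (by rw [Ideal.mk_ker]; exact hlt.le)
  have hQy : Q.comap (Ideal.Quotient.mk p) = y := by
    simp only [Q]
    rw [Ideal.comap_map_of_surjective _ Ideal.Quotient.mk_surjective, ← RingHom.ker_eq_comap_bot,
      Ideal.mk_ker, sup_eq_left.2 hlt.le]
  have hQ : Q ≠ ⊥ := by
    intro h
    rw [h, ← RingHom.ker_eq_comap_bot, Ideal.mk_ker] at hQy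
    exact hlt.ne hQy
  let K := FractionRing B
  let L := Localization.AtPrime Q
  haveI : IsNoetherianRing L := IsLocalization.isNoetherianRing Q.primeCompl L inferInstance
  have hu : ∀ z : Q.primeCompl, IsUnit (algebraMap B K z) := fun z =>
    isUnit_iff_ne_zero.mpr fun h => z.2 (by
      rw [(IsFractionRing.injective B K) (h.trans (map_zero _).symm)]; exact Q.zero_mem)
  letI : Algebra L K := (IsLocalization.lift hu).toAlgebra
  haveI : IsScalarTower B L K :=
    IsScalarTower.of_algebraMap_eq fun b => (IsLocalization.lift_eq hu b).symm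
  haveI : IsFractionRing L K :=
    IsFractionRing.isFractionRing_of_isDomain_of_isLocalization Q.primeCompl L K
  have hLf : ¬ IsField L := by
    intro h
    obtain ⟨b, hb, hb0⟩ := Submodule.exists_mem_ne_zero_of_ne_bot hQ
    have h1 := (IsLocalization.AtPrime.to_map_mem_maximal_iff L Q b).mpr hb
    rw [IsLocalRing.isField_iff_maximalIdeal_eq.mp h, Submodule.mem_bot] at h1
    exact hb0 (IsLocalization.injective L Q.primeCompl_le_nonZeroDivisors (h1.trans (map_zero _).symm))
  obtain ⟨V, hV, h1, h2⟩ := DomDVR.exists_dvr_dominating hLf K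
  let ψ : L →+* V := (algebraMap L K).codRestrict V.toSubring h1
  haveI : IsLocalHom ψ := by
    refine ⟨fun x hx => ?_⟩
    by_contra hn
    have h3 := h2 x ((IsLocalRing.mem_maximalIdeal x).mpr hn)
    exact ((IsLocalRing.mem_maximalIdeal _).mp (ValuationSubring.coe_mem_nonunits_iff (a := ψ x) |>.mp h3)) hx
  refine ⟨V, inferInstance, inferInstance, hV,
    (ψ.comp (algebraMap B L)).comp (Ideal.Quotient.mk p), ?_, ?_⟩
  · have hinj : Function.Injective (ψ.comp (algebraMap B L)) := by
      intro a b hab
      apply IsFractionRing.injective B K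
      rw [IsScalarTower.algebraMap_apply B L K a, IsScalarTower.algebraMap_apply B L K b]
      exact congrArg Subtype.val hab
    rw [RingHom.ker_comp_of_injective _ hinj, Ideal.mk_ker]
  · rw [← Ideal.comap_comap, ← Ideal.comap_comap]
    rw [IsLocalRing.maximalIdeal_comap ψ, show (maximalIdeal L).comap (algebraMap B L) = Q from IsLocalization.AtPrime.comap_maximalIdeal L Q]
    exact hQy

/-- A family of fractions on the minimal primes which lies in every discrete valuation ring
comes from an element of a reduced normal Noetherian ring. -/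
theorem exists_of_forall_dvr [IsReduced A] [IsIntegrallyClosed A]
    (b c : minimalPrimes A → A) (hc : ∀ p : minimalPrimes A, c p ∉ p.1)
    (h : ∀ (p : minimalPrimes A) (R : Type u) [CommRing R] [IsDomain R] [IsDiscreteValuationRing R]
      (φ : A →+* R), RingHom.ker φ = p.1 → ∃ r, r * φ (c p) = φ (b p)) :
    ∃ a : A, ∀ p : minimalPrimes A, b p - a * c p ∈ p.1 := by
  classical
  haveI : Fintype (minimalPrimes A) := (minimalPrimes.finite_of_isNoetherianRing A).fintype
  haveI : ∀ p : minimalPrimes A, p.1.IsPrime := fun p => p.2.1.1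
  have hsep : ∀ p : minimalPrimes A, ∃ e : A, e ∉ p.1 ∧ ∀ q, q ≠ p → e ∈ q.1 := fun p => by
    have h1 : ∀ q : {q // q ≠ p}, ∃ g ∈ q.1.1, g ∉ p.1 := fun q => Set.not_subset.mp fun hle =>
      q.2 (Subtype.ext (le_antisymm hle (p.2.2 ⟨inferInstance, bot_le⟩ hle)))
    choose g hg1 hg2 using h1
    refine ⟨∏ q, g q, fun hmem => ?_, fun q hq => ?_⟩
    · obtain ⟨q, -, hq⟩ := (Ideal.IsPrime.prod_mem_iff (p := p.1)).mp hmem
      exact hg2 q hq
    · exact Ideal.mem_of_dvd _ (Finset.dvd_prod_of_mem g (Finset.mem_univ ⟨q, hq⟩)) (hg1 ⟨q, hq⟩)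
  choose ε hε1 hε2 using hsep
  let S : A := ∑ p, c p * ε p
  let Bn : A := ∑ p, b p * ε p
  have hcong : ∀ (p : minimalPrimes A) (f : minimalPrimes A → A),
      (∑ q, f q * ε q) - f p * ε p ∈ p.1 := fun p f => by
    rw [← Finset.sum_erase_eq_sub (Finset.mem_univ p)]
    exact Ideal.sum_mem _ fun q hq =>
      Ideal.mul_mem_left _ _ (hε2 q p (Ne.symm (Finset.ne_of_mem_erase hq)))
  have hS : ∀ p : minimalPrimes A, S ∉ p.1 := fun p hmem => by
    have h1 := p.1.sub_mem hmem (hcong p c)
    rw [sub_sub_cancel] at h1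
    exact ((inferInstance : p.1.IsPrime).mem_or_mem h1).elim (hc p) (hε1 p)
  have hzero : ∀ x : A, (∀ p : minimalPrimes A, x ∈ p.1) → x = 0 := fun x hx => by
    have h1 : x ∈ nilradical A := by
      rw [nilradical, ← Ideal.sInf_minimalPrimes (I := (0 : Ideal A)), Submodule.mem_sInf]
      exact fun P hP => hx ⟨P, hP⟩
    rwa [nilradical_eq_zero, Submodule.zero_eq_bot, Ideal.mem_bot] at h1
  have hnzd : S ∈ nonZeroDivisors A := by
    rw [mem_nonZeroDivisors_iff_right]
    intro x hx
    exact hzero x fun p =>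
      ((inferInstance : p.1.IsPrime).mem_or_mem (hx ▸ p.1.zero_mem)).resolve_right (hS p)
  let Q := FractionRing A
  let s : nonZeroDivisors A := ⟨S, hnzd⟩
  let q : Q := IsLocalization.mk' Q Bn s
  have hunit : ∀ (p : minimalPrimes A) (y : nonZeroDivisors A),
      IsUnit (algebraMap A p.1.ResidueField y) := fun p y =>
    isUnit_iff_ne_zero.mpr fun h0 => Set.disjoint_left.mp
      (Ideal.disjoint_nonZeroDivisors_of_mem_minimalPrimes p.2)
      (Ideal.algebraMap_residueField_eq_zero.mp h0) y.2
  let π : ∀ p : minimalPrimes A, Q →+* p.1.ResidueField := fun p => IsLocalization.lift (hunit p)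
  have hπ : ∀ p a, π p (algebraMap A Q a) = algebraMap A p.1.ResidueField a := fun p a =>
    IsLocalization.lift_eq (hunit p) a
  have hc0 : ∀ p, algebraMap A p.1.ResidueField (c p) ≠ 0 := fun p h0 =>
    hc p (Ideal.algebraMap_residueField_eq_zero.mp h0)
  have hq : ∀ p, π p q * algebraMap A p.1.ResidueField (c p) = algebraMap A _ (b p) := by
    intro p
    have h1 : π p q * algebraMap A p.1.ResidueField S = algebraMap A _ Bn := by
      rw [← hπ, ← map_mul, IsLocalization.mk'_spec, hπ]
    have hSp : algebraMap A p.1.ResidueField S = algebraMap A _ (c p) * algebraMap A _ (ε p) := by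
      rw [← map_mul, ← sub_eq_zero, ← map_sub]
      exact Ideal.algebraMap_residueField_eq_zero.mpr (hcong p c)
    have hBp : algebraMap A p.1.ResidueField Bn = algebraMap A _ (b p) * algebraMap A _ (ε p) := by
      rw [← map_mul, ← sub_eq_zero, ← map_sub]
      exact Ideal.algebraMap_residueField_eq_zero.mpr (hcong p b)
    rw [hSp, hBp, ← mul_assoc] at h1
    exact mul_right_cancel₀ (fun h0 => hε1 p (Ideal.algebraMap_residueField_eq_zero.mp h0)) h1
  have hint : ∀ p : minimalPrimes A, IsIntegral A (π p q) := by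
    intro p
    refine isIntegral_trans (R := A) (A := A ⧸ p.1) _ ?_
    refine (DVRCrit.isIntegral_iff_forall_dvr (L := p.1.ResidueField) (A ⧸ p.1) p.1.ResidueField
      ⟨∅, Subsingleton.elim _ _⟩ _).mpr ?_
    intro V hV hAV
    let φ : A →+* V := (algebraMap A p.1.ResidueField).codRestrict V.toSubring fun a => by
      rw [IsScalarTower.algebraMap_apply A (A ⧸ p.1) p.1.ResidueField]
      exact hAV _
    have hker : RingHom.ker φ = p.1 := by
      ext a
      rw [RingHom.mem_ker, ← Ideal.algebraMap_residueField_eq_zero (I := p.1)]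
      exact ⟨fun h0 => congrArg Subtype.val h0, fun h0 => Subtype.ext h0⟩
    obtain ⟨r, hr⟩ := h p V φ hker
    have h2 : (r : p.1.ResidueField) * algebraMap A _ (c p) = algebraMap A _ (b p) :=
      congrArg Subtype.val hr
    rw [← hq p] at h2
    exact mul_right_cancel₀ (hc0 p) h2 ▸ r.2
  have hQzero : ∀ x : Q, (∀ p, π p x = 0) → x = 0 := by
    intro x hx
    obtain ⟨u, v, rfl⟩ := IsLocalization.exists_mk'_eq (nonZeroDivisors A) x
    rw [IsLocalization.mk'_eq_zero_iff]
    refine ⟨1, ?_⟩
    rw [OneMemClass.coe_one, one_mul]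
    refine hzero u fun p => Ideal.algebraMap_residueField_eq_zero.mp ?_
    rw [← hπ, ← IsLocalization.mk'_spec Q u v, map_mul, hx p, zero_mul]
  choose P hPm hP0 using hint
  have hqint : IsIntegral A q := by
    refine ⟨∏ p, P p, monic_prod_of_monic _ _ fun p _ => hPm p, hQzero _ fun p => ?_⟩
    rw [hom_eval₂, show (π p).comp (algebraMap A Q) = algebraMap A p.1.ResidueField from
      RingHom.ext (hπ p), eval₂_finsetProd]
    exact Finset.prod_eq_zero (Finset.mem_univ p) (hP0 p)
  obtain ⟨a, ha⟩ := IsIntegrallyClosed.isIntegral_iff.mp hqint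
  refine ⟨a, fun p => Ideal.algebraMap_residueField_eq_zero.mp ?_⟩
  rw [map_sub, map_mul, ← hq p, ← ha, hπ, sub_self]

end Groth.Agent.PtFunNormal
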