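/-
Values of pointwise functions on affine schemes, in ring language.
-/
import Mathlib
import Groth.Prelude.Def_W4c1hilbchowincPtFun

set_option autoImplicit false
set_option linter.style.haveILetI false

universe u

open CategoryTheory AlgebraicGeometry W4c1hilbchowinc

namespace Groth.Agent.PtFunNormal

variable (A : Type u) [CommRing A]

/-- The value of an element of `A` at a point of its spectrum. -/
noncomputable def evalHom (x : Spec (CommRingCat.of A)) :
    A →+* (Spec (CommRingCat.of A)).residueField x :=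
  ((Scheme.ΓSpecIso (CommRingCat.of A)).inv ≫ (Spec (CommRingCat.of A)).Γevaluation x).hom

theorem evalHom_eq (x : Spec (CommRingCat.of A)) (a : A) :
    evalHom A x a = (Scheme.Spec.residueFieldIso (CommRingCat.of A) x).inv
      (algebraMap A x.asIdeal.ResidueField a) :=
  (CategoryTheory.congr_fun
    (Scheme.Spec.algebraMap_residueFieldIso_inv (CommRingCat.of A) x) a).symm

theorem evalHom_eq_zero (x : Spec (CommRingCat.of A)) (a : A) :
    evalHom A x a = 0 ↔ a ∈ x.asIdeal := by
  rw [evalHom_eq, ← Ideal.algebraMap_residueField_eq_zero (I := x.asIdeal)]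
  exact map_eq_zero_iff _
    (Scheme.Spec.residueFieldIso (CommRingCat.of A) x).commRingCatIsoToRingEquiv.symm.injective

theorem exists_frac (x : Spec (CommRingCat.of A))
    (z : (Spec (CommRingCat.of A)).residueField x) :
    ∃ b c : A, c ∉ x.asIdeal ∧ z * evalHom A x c = evalHom A x b := by
  let e := (Scheme.Spec.residueFieldIso (CommRingCat.of A) x).commRingCatIsoToRingEquiv
  obtain ⟨b, c, hc, hbc⟩ := IsFractionRing.div_surjective (A := A ⧸ x.asIdeal) (e z)
  obtain ⟨b, rfl⟩ := Ideal.Quotient.mk_surjective b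
  obtain ⟨c, rfl⟩ := Ideal.Quotient.mk_surjective c
  have hc' : c ∉ x.asIdeal := fun h0 =>
    nonZeroDivisors.ne_zero hc (Ideal.Quotient.eq_zero_iff_mem.mpr h0)
  refine ⟨b, c, hc', e.injective ?_⟩
  have h1 : ∀ a, e (evalHom A x a) = algebraMap A x.asIdeal.ResidueField a := fun a => by
    rw [evalHom_eq]; exact e.apply_symm_apply _
  have hc0 : algebraMap A x.asIdeal.ResidueField c ≠ 0 :=
    fun h0 => hc' (Ideal.algebraMap_residueField_eq_zero.mp h0)
  have hbc' : algebraMap A x.asIdeal.ResidueField b / algebraMap A x.asIdeal.ResidueField c = e z := by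
    rw [← hbc]; rfl
  rw [map_mul, h1, h1, ← hbc', div_mul_cancel₀ _ hc0]

variable {A}

theorem residueFieldMap_evalHom {R : Type u} [CommRing R] (φ : A →+* R)
    (P : Spec (CommRingCat.of R)) (a : A) :
    (Spec.map (CommRingCat.ofHom φ)).residueFieldMap P (evalHom A _ a) = evalHom R P (φ a) := by
  show (Spec.map (CommRingCat.ofHom φ)).residueFieldMap P
    ((Spec (CommRingCat.of A)).Γevaluation _ ((Scheme.ΓSpecIso (CommRingCat.of A)).inv a)) = _
  rw [Scheme.Γevaluation_naturality_apply]
  exact congrArg ((Spec (CommRingCat.of R)).Γevaluation P)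
    (CategoryTheory.congr_fun (Scheme.ΓSpecIso_inv_naturality (CommRingCat.ofHom φ)) a).symm

theorem exists_test (f : PtFun (Spec (CommRingCat.of A))) {R : Type u} [CommRing R]
    (φ : A →+* R) (h : (f.pullback (Spec.map (CommRingCat.ofHom φ))).IsAlgebraic) :
    ∃ r : R, ∀ (P : PrimeSpectrum R) (x : Spec (CommRingCat.of A)),
      x.asIdeal = P.asIdeal.comap φ → ∀ b c : A,
        f x * evalHom A x c = evalHom A x b → r * φ c - φ b ∈ P.asIdeal := by
  obtain ⟨s, hs⟩ := h
  refine ⟨(Scheme.ΓSpecIso (CommRingCat.of R)).hom s, fun P x hx b c hbc => ?_⟩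
  have hx' : Spec.map (CommRingCat.ofHom φ) P = x := PrimeSpectrum.ext hx.symm
  subst hx'
  have hr : evalHom R P ((Scheme.ΓSpecIso (CommRingCat.of R)).hom s) =
      (Spec.map (CommRingCat.ofHom φ)).residueFieldMap P (f (Spec.map (CommRingCat.ofHom φ) P)) := by
    show (Spec (CommRingCat.of R)).Γevaluation P ((Scheme.ΓSpecIso (CommRingCat.of R)).inv
      ((Scheme.ΓSpecIso (CommRingCat.of R)).hom s)) = _
    rw [CategoryTheory.Iso.hom_inv_id_apply]
    exact congrFun hs P
  rw [← evalHom_eq_zero R P, map_sub, map_mul, hr, ← residueFieldMap_evalHom,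
    ← residueFieldMap_evalHom, ← map_mul, hbc, sub_self]

variable (A)

theorem eq_of_forall_evalHom [IsReduced A] {a b : A} (h : ∀ x, evalHom A x a = evalHom A x b) :
    a = b := by
  have h0 : a - b ∈ nilradical A := by
    rw [nilradical_eq_sInf, Submodule.mem_sInf]
    intro P hP
    exact (evalHom_eq_zero A ⟨P, hP⟩ _).mp (by rw [map_sub, h, sub_self])
  rwa [nilradical_eq_zero, Submodule.zero_eq_bot, Ideal.mem_bot, sub_eq_zero] at h0

/-- If every value of `f` is the value of `a`, then `f` is uniquely algebraic. -/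
theorem existsUnique_of_eval [IsReduced A] (f : PtFun (Spec (CommRingCat.of A))) (a : A)
    (h : ∀ x, f x = evalHom A x a) :
    ∃! t : Γ(Spec (CommRingCat.of A), ⊤), PtFun.ofSection (Spec (CommRingCat.of A)) t = f := by
  refine ⟨(Scheme.ΓSpecIso (CommRingCat.of A)).inv a, funext fun x => (h x).symm, fun t ht => ?_⟩
  have ht' : ∀ x, evalHom A x ((Scheme.ΓSpecIso (CommRingCat.of A)).hom t) = f x := fun x => by
    show (Spec (CommRingCat.of A)).Γevaluation x ((Scheme.ΓSpecIso (CommRingCat.of A)).inv
      ((Scheme.ΓSpecIso (CommRingCat.of A)).hom t)) = _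
    rw [CategoryTheory.Iso.hom_inv_id_apply]
    exact congrFun ht x
  rw [← eq_of_forall_evalHom A fun x => (ht' x).trans (h x), CategoryTheory.Iso.hom_inv_id_apply]

end Groth.Agent.PtFunNormal
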