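/-
Pointwise functions on seminormal Noetherian affine schemes.
-/
import Mathlib
import Groth.Agent.PtFunNormal.Alg
import Groth.Agent.PtFunNormal.Pt
import Groth.Agent.AWNLib.Scheme3
import Groth.Agent.RegLocal.Basic
import Groth.Agent.RegLocal.Completion

set_option autoImplicit false
set_option linter.style.haveILetI false

universe u

open CategoryTheory AlgebraicGeometry W4c1hilbchowinc IsLocalRing

namespace Groth.Agent.PtFunNormal

/-- A discrete valuation ring sits in a complete one, by a local injection. -/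
theorem exists_dvr_completion (R : Type u) [CommRing R] [IsDomain R] [IsDiscreteValuationRing R] :
    ∃ (R' : Type u) (_ : CommRing R') (_ : IsDomain R') (_ : IsDiscreteValuationRing R')
      (_ : IsAdicComplete (maximalIdeal R') R') (ι : R →+* R'),
      Function.Injective ι ∧ IsLocalHom ι := by
  let S := AdicCompletion (maximalIdeal R) R
  have hne : maximalIdeal R ≠ ⊤ := (maximalIdeal.isMaximal R).ne_top
  have hreg : IsRegularLocalRing S :=
    (RegLocal.isRegularLocalRing_completion_iff R _ hne).mp inferInstance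
  have hdim : ringKrullDim S = 1 := by
    rw [RegLocal.ringKrullDim_completion R _ hne]
    exact IsPrincipalIdealRing.ringKrullDim_eq_one R (IsDiscreteValuationRing.not_isField R)
  have hd : IsDomain S := RegLocal.isDomain S
  have hf : ¬ IsField S := fun hf => by
    rw [ringKrullDim_eq_zero_of_isField hf] at hdim; exact zero_ne_one hdim
  have hv : IsDiscreteValuationRing S := by
    refine ((IsDiscreteValuationRing.TFAE S hf).out 5 0).mp ?_
    have h := (IsRegularLocalRing.iff_finrank_cotangentSpace S).mp hreg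
    rw [hdim] at h
    exact_mod_cast h
  haveI := RegLocal.faithfullyFlat_completion R (maximalIdeal R) hne
  exact ⟨S, inferInstance, hd, hv,
    AdicCompletion.isAdicComplete_of_fg (maximalIdeal R).fg_of_isNoetherianRing,
    algebraMap R S, FaithfulSMul.algebraMap_injective R S, inferInstance⟩

variable (A : Type u) [CommRing A] [IsNoetherianRing A] [IsReduced A]

/-- The pointwise function is given by an element of the integral closure. -/
theorem exists_mem_integralClosure (hfin : Module.Finite A (integralClosure A (FractionRing A)))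
    (f : PtFun (Spec (CommRingCat.of A))) (hf : f.VariesAlongCompleteDVR)
    (u v : Spec (CommRingCat.of A) → A)
    (hv : ∀ y, v y ∉ y.asIdeal) (huv : ∀ y, f y * evalHom A y (v y) = evalHom A y (u y)) :
    ∃ b : integralClosure A (FractionRing A),
      ∀ (x : PrimeSpectrum (integralClosure A (FractionRing A))) (y : Spec (CommRingCat.of A)),
        y.asIdeal = x.asIdeal.comap (algebraMap A _) →
        b * algebraMap A _ (v y) - algebraMap A _ (u y) ∈ x.asIdeal := by
  let Q := FractionRing A
  let B := integralClosure A Q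
  haveI : IsReduced Q := isReduced_localizationPreserves (nonZeroDivisors A) Q inferInstance
  haveI : IsReduced B := isReduced_of_injective B.val (Subtype.val_injective)
  haveI : IsNoetherianRing B := IsNoetherianRing.of_finite A B
  haveI : IsFractionRing B Q := (isLocalization_iff _ _).mpr (by
    have hQ : ∀ z : Q, ∃ (a : A) (s : nonZeroDivisors A), z * algebraMap A Q s = algebraMap A Q a :=
      fun z => ⟨(IsLocalization.surj (nonZeroDivisors A) z).choose.1,
        (IsLocalization.surj (nonZeroDivisors A) z).choose.2,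
        (IsLocalization.surj (nonZeroDivisors A) z).choose_spec⟩
    refine ⟨fun z => ?_, fun z => ?_, fun {z w} h => ⟨1, ?_⟩⟩
    · obtain ⟨⟨z, hz⟩, hmem⟩ := z
      obtain ⟨a, s, has⟩ := hQ z
      have hs : IsUnit (algebraMap A Q (s : A)) := IsLocalization.map_units Q s
      have ha : a ∈ nonZeroDivisors A := by
        rw [mem_nonZeroDivisors_iff_right]
        intro a' ha'
        have h1 : algebraMap A Q a' * z = 0 := by
          rw [← hs.mul_left_eq_zero, mul_assoc, has, ← map_mul, ha', map_zero]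
        have h2 : algebraMap A B a' = 0 :=
          (mem_nonZeroDivisors_iff_right.mp hmem) _ (Subtype.ext h1)
        exact IsFractionRing.injective A Q ((congrArg Subtype.val h2).trans (map_zero _).symm)
      have h3 : IsUnit (z * algebraMap A Q (s : A)) :=
        has ▸ IsLocalization.map_units Q (⟨a, ha⟩ : nonZeroDivisors A)
      exact isUnit_of_mul_isUnit_left h3
    · obtain ⟨a, s, has⟩ := hQ z
      refine ⟨⟨algebraMap A B a, ⟨algebraMap A B s, ?_⟩⟩, has⟩
      rw [mem_nonZeroDivisors_iff_right]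
      intro x hx
      exact Subtype.ext ((IsLocalization.map_units Q s).mul_left_eq_zero.mp (congrArg Subtype.val hx))
    · rw [show z = w from Subtype.ext h])
  haveI : IsIntegrallyClosed B := (isIntegrallyClosed_iff Q).mpr fun {z} hz =>
    ⟨⟨z, isIntegral_trans (R := A) z hz⟩, rfl⟩
  let π : PrimeSpectrum B → Spec (CommRingCat.of A) := fun x => PrimeSpectrum.comap (algebraMap A B) x
  let pt : minimalPrimes B → PrimeSpectrum B := fun p => ⟨p.1, p.2.1.1⟩
  have htest : ∀ (R : Type u) [CommRing R] [IsDomain R] [IsDiscreteValuationRing R] (φ : B →+* R),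
      ∃ (R' : Type u) (_ : CommRing R') (_ : IsDomain R') (_ : IsDiscreteValuationRing R')
        (ι : R →+* R') (_ : Function.Injective ι) (_ : IsLocalHom ι) (r : R'),
        ∀ (P : PrimeSpectrum R') (x : PrimeSpectrum B), x.asIdeal = P.asIdeal.comap (ι.comp φ) →
          r * ι (φ (algebraMap A B (v (π x)))) - ι (φ (algebraMap A B (u (π x)))) ∈ P.asIdeal := by
    intro R _ _ _ φ
    obtain ⟨R', i1, i2, i3, i4, ι, hι, hl⟩ := exists_dvr_completion R
    obtain ⟨r, hr⟩ := exists_test f ((ι.comp φ).comp (algebraMap A B)) (hf R' _)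
    refine ⟨R', i1, i2, i3, ι, hι, hl, r, fun P x hx => ?_⟩
    exact hr P (π x) (by rw [← Ideal.comap_comap, ← hx]; rfl) _ _ (huv (π x))
  obtain ⟨b, hb⟩ := exists_of_forall_dvr (A := B)
    (fun p => algebraMap A B (u (π (pt p)))) (fun p => algebraMap A B (v (π (pt p))))
    (fun p hmem => hv (π (pt p)) hmem) (fun p R _ _ _ φ hφ => by
      obtain ⟨R', _, _, _, ι, hι, hl, r, hr⟩ := htest R φ
      have h1 : r * ι (φ (algebraMap A B (v (π (pt p))))) = ι (φ (algebraMap A B (u (π (pt p))))) :=
        sub_eq_zero.mp (Ideal.mem_bot.mp (hr ⟨(⊥ : Ideal R'), Ideal.isPrime_bot⟩ (pt p)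
          (by rw [← RingHom.ker_eq_comap_bot, RingHom.ker_comp_of_injective _ hι, hφ])))
      have hc : φ (algebraMap A B (v (π (pt p)))) ≠ 0 := fun h0 => hv (π (pt p)) (by
        show algebraMap A B (v (π (pt p))) ∈ p.1
        rw [← hφ]; exact h0)
      rcases ValuationRing.dvd_total (φ (algebraMap A B (v (π (pt p)))))
          (φ (algebraMap A B (u (π (pt p))))) with ⟨t, ht⟩ | ⟨t, ht⟩
      · exact ⟨t, by rw [ht, mul_comm]⟩
      · have hu0 : ι (φ (algebraMap A B (u (π (pt p))))) ≠ 0 := by
          rw [map_ne_zero_iff _ hι]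
          intro h0
          exact hc (by rw [ht, h0, zero_mul])
        rw [ht, map_mul, mul_comm r, mul_assoc] at h1
        have ht1 : ι t * r = 1 := mul_left_cancel₀ hu0 (h1.trans (mul_one _).symm)
        obtain ⟨w, hw⟩ := (IsUnit.of_mul_eq_one r ht1).of_map ι t
        refine ⟨↑w⁻¹, ?_⟩
        rw [ht, ← hw, mul_left_comm, Units.inv_mul, mul_one])
  refine ⟨b, fun x y hy => ?_⟩
  obtain rfl : y = π x := PrimeSpectrum.ext hy
  obtain ⟨p, hp, hpx⟩ := Ideal.exists_minimalPrimes_le (bot_le : ⊥ ≤ x.asIdeal)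
  let p' : minimalPrimes B := ⟨p, hp⟩
  rcases hpx.eq_or_lt with heq | hlt
  · obtain rfl : pt p' = x := PrimeSpectrum.ext heq
    have h1 := p.neg_mem (hb p')
    rwa [neg_sub] at h1
  · haveI : p.IsPrime := hp.1.1
    obtain ⟨R, iR, iD, iV, φ, hk, hm⟩ := exists_dvr_specialization p x.asIdeal hlt
    obtain ⟨R', _, _, _, ι, hι, hl, r, hr⟩ := htest R φ
    have h2 : r * ι (φ (algebraMap A B (v (π (pt p'))))) = ι (φ (algebraMap A B (u (π (pt p'))))) :=
      sub_eq_zero.mp (Ideal.mem_bot.mp (hr ⟨(⊥ : Ideal R'), Ideal.isPrime_bot⟩ (pt p')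
        (by rw [← RingHom.ker_eq_comap_bot, RingHom.ker_comp_of_injective _ hι, hk])))
    have h3 : algebraMap A B (u (π (pt p'))) - b * algebraMap A B (v (π (pt p'))) ∈ RingHom.ker φ := by
      rw [hk]; exact hb p'
    rw [RingHom.mem_ker, map_sub, map_mul, sub_eq_zero] at h3
    rw [h3, map_mul] at h2
    have hr' : r = ι (φ b) := by
      refine mul_right_cancel₀ ?_ h2
      rw [map_ne_zero_iff _ hι]
      intro h0
      apply hv (π (pt p'))
      show algebraMap A B (v (π (pt p'))) ∈ p
      rw [← hk]; exact h0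
    have h4 := hr (closedPoint R') x
      (by rw [← Ideal.comap_comap]
          show x.asIdeal = Ideal.comap φ ((maximalIdeal R').comap ι)
          rw [IsLocalRing.maximalIdeal_comap ι, hm])
    rw [hr', ← map_mul, ← map_sub, ← map_mul, ← map_sub] at h4
    rw [← hm, Ideal.mem_comap, ← IsLocalRing.maximalIdeal_comap ι, Ideal.mem_comap]
    exact h4

/-- An element of an integral extension which takes values in the residue fields of a seminormal ring
belongs to it. -/
theorem mem_range_of_seminormal (hA : HTop.IsSeminormalRing A) {B : Type u} [CommRing B]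
    [IsReduced B] [Algebra A B] [Algebra.IsIntegral A B]
    (hinj : Function.Injective (algebraMap A B)) (b : B) (u v : PrimeSpectrum A → A)
    (hv : ∀ y, v y ∉ y.asIdeal)
    (h : ∀ (x : PrimeSpectrum B) (y : PrimeSpectrum A), y.asIdeal = x.asIdeal.comap (algebraMap A B) →
      b * algebraMap A B (v y) - algebraMap A B (u y) ∈ x.asIdeal) :
    b ∈ Set.range (algebraMap A B) := by
  let C : Subalgebra A B := Algebra.adjoin A {b}
  haveI : IsReduced C := isReduced_of_injective C.val Subtype.val_injective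
  haveI : Algebra.IsIntegral A C := ⟨fun c =>
    (isIntegral_algHom_iff C.val Subtype.val_injective).mp (Algebra.IsIntegral.isIntegral (c : B))⟩
  let ψ : A →+* C := algebraMap A C
  have hCB : Function.Surjective (PrimeSpectrum.comap C.val.toRingHom) := by
    refine RingHom.IsIntegral.comap_surjective ?_ Subtype.val_injective
    intro z
    exact RingHom.IsIntegralElem.of_comp (f := ψ) (Algebra.IsIntegral.isIntegral z)
  have hψinj : Function.Injective ψ := fun a a' haa => hinj (congrArg Subtype.val haa)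
  -- every element of `C` has its values in the residue fields of `A`
  have hC : ∀ (P : PrimeSpectrum C) (w : C), ∃ a s : A, ψ s ∉ P.asIdeal ∧ w * ψ s - ψ a ∈ P.asIdeal := by
    intro P w
    obtain ⟨x, rfl⟩ := hCB P
    let y : PrimeSpectrum A := PrimeSpectrum.comap (algebraMap A B) x
    obtain ⟨w, hw⟩ := w
    induction hw using Algebra.adjoin_induction with
    | mem z hz =>
      obtain rfl : z = b := hz
      exact ⟨u y, v y, hv y, h x y rfl⟩
    | algebraMap r => exact ⟨r, 1, fun h1 => x.2.ne_top ((Ideal.eq_top_iff_one _).mpr (by simpa using h1)), by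
        simp only [map_one, mul_one]; exact (sub_self (ψ r)) ▸ Ideal.zero_mem _⟩
    | add z z' hz hz' h1 h2 =>
      obtain ⟨a, s, hs, ha⟩ := h1
      obtain ⟨a', s', hs', ha'⟩ := h2
      refine ⟨a * s' + a' * s, s * s', fun hh => ?_, ?_⟩
      · rw [map_mul] at hh
        exact ((PrimeSpectrum.comap C.val.toRingHom x).2.mem_or_mem hh).elim hs hs'
      · rw [show (⟨z + z', _⟩ : C) = ⟨z, hz⟩ + ⟨z', hz'⟩ from rfl,
          show (⟨z, hz⟩ + ⟨z', hz'⟩) * ψ (s * s') - ψ (a * s' + a' * s) =
            (⟨z, hz⟩ * ψ s - ψ a) * ψ s' + (⟨z', hz'⟩ * ψ s' - ψ a') * ψ s by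
            simp only [map_add, map_mul]; ring]
        exact Ideal.add_mem _ (Ideal.mul_mem_right _ _ ha) (Ideal.mul_mem_right _ _ ha')
    | mul z z' hz hz' h1 h2 =>
      obtain ⟨a, s, hs, ha⟩ := h1
      obtain ⟨a', s', hs', ha'⟩ := h2
      refine ⟨a * a', s * s', fun hh => ?_, ?_⟩
      · rw [map_mul] at hh
        exact ((PrimeSpectrum.comap C.val.toRingHom x).2.mem_or_mem hh).elim hs hs'
      · rw [show (⟨z * z', _⟩ : C) = ⟨z, hz⟩ * ⟨z', hz'⟩ from rfl,
          show (⟨z, hz⟩ * ⟨z', hz'⟩) * ψ (s * s') - ψ (a * a') =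
            (⟨z, hz⟩ * ψ s - ψ a) * (⟨z', hz'⟩ * ψ s') + (⟨z', hz'⟩ * ψ s' - ψ a') * ψ a by
            simp only [map_mul]; ring]
        exact Ideal.add_mem _ (Ideal.mul_mem_right _ _ ha) (Ideal.mul_mem_right _ _ ha')
  have hu : FlatMor.IsUnivHomeo (Spec.map (CommRingCat.ofHom ψ)) := by
    refine AWNLib.isUnivHomeo_of ψ (fun z => Algebra.IsIntegral.isIntegral z) ?_ ?_
    · intro K _ g g' hgg
      ext w
      have hker : ∀ (g : C →+* K), ∃ P : PrimeSpectrum C, P.asIdeal = RingHom.ker g := fun g =>
        ⟨⟨RingHom.ker g, RingHom.ker_isPrime g⟩, rfl⟩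
      induction w using Subtype.recOn with
      | mk w hw =>
        induction hw using Algebra.adjoin_induction with
        | mem z hz =>
          obtain rfl : z = b := hz
          let bC : C := ⟨z, Algebra.subset_adjoin rfl⟩
          let y : PrimeSpectrum A := PrimeSpectrum.comap (g.comp ψ) (⊥ : PrimeSpectrum K)
          have key : ∀ G : C →+* K, G.comp ψ = g.comp ψ →
              G bC = (g.comp ψ) (u y) / (g.comp ψ) (v y) := by
            intro G hG
            have hv0 : (g.comp ψ) (v y) ≠ 0 := fun h0 => hv y h0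
            obtain ⟨P, hP⟩ := hker G
            obtain ⟨x, hx⟩ := hCB P
            have hy : y.asIdeal = x.asIdeal.comap (algebraMap A B) := by
              show Ideal.comap (g.comp ψ) ⊥ = Ideal.comap (C.val.toRingHom.comp ψ) x.asIdeal
              rw [← hG, ← Ideal.comap_comap, ← Ideal.comap_comap, ← RingHom.ker_eq_comap_bot, ← hP, ← hx]
              rfl
            have hmem : bC * ψ (v y) - ψ (u y) ∈ RingHom.ker G := by
              rw [← hP, ← hx]
              exact h x y hy
            rw [RingHom.mem_ker, map_sub, map_mul, sub_eq_zero] at hmem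
            rw [eq_div_iff hv0, ← hG]
            exact hmem
          show g bC = g' bC
          rw [key g rfl, key g' hgg.symm]
        | algebraMap r => exact RingHom.congr_fun hgg r
        | add z z' hz hz' h1 h2 =>
          show g (⟨z, hz⟩ + ⟨z', hz'⟩) = g' (⟨z, hz⟩ + ⟨z', hz'⟩)
          rw [map_add, map_add, h1, h2]
        | mul z z' hz hz' h1 h2 =>
          show g (⟨z, hz⟩ * ⟨z', hz'⟩) = g' (⟨z, hz⟩ * ⟨z', hz'⟩)
          rw [map_mul, map_mul, h1, h2]
    · exact RingHom.IsIntegral.comap_surjective (fun z => Algebra.IsIntegral.isIntegral z) hψinj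
  have hr : HTop.ResidueFieldsIso (Spec.map (CommRingCat.ofHom ψ)) := by
    intro P
    refine (ConcreteCategory.isIso_iff_bijective _).2 ⟨RingHom.injective _, fun z => ?_⟩
    obtain ⟨w₁, w₂, hw₂, hz⟩ := exists_frac C P z
    obtain ⟨a₁, s₁, hs₁, h₁⟩ := hC P w₁
    obtain ⟨a₂, s₂, hs₂, h₂⟩ := hC P w₂
    have e₁ : evalHom C P w₁ * evalHom C P (ψ s₁) = evalHom C P (ψ a₁) := by
      rw [← map_mul, ← sub_eq_zero, ← map_sub, evalHom_eq_zero]; exact h₁
    have e₂ : evalHom C P w₂ * evalHom C P (ψ s₂) = evalHom C P (ψ a₂) := by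
      rw [← map_mul, ← sub_eq_zero, ← map_sub, evalHom_eq_zero]; exact h₂
    refine ⟨evalHom A _ (a₁ * s₂) / evalHom A _ (s₁ * a₂), ?_⟩
    rw [map_div₀, residueFieldMap_evalHom ψ P, residueFieldMap_evalHom ψ P, map_mul, map_mul,
      map_mul, map_mul]
    have n₁ : evalHom C P (ψ s₁) ≠ 0 := fun h0 => hs₁ ((evalHom_eq_zero C P _).mp h0)
    have n₂ : evalHom C P (ψ s₂) ≠ 0 := fun h0 => hs₂ ((evalHom_eq_zero C P _).mp h0)
    have nw : evalHom C P w₂ ≠ 0 := fun h0 => hw₂ ((evalHom_eq_zero C P _).mp h0)
    rw [div_eq_iff (mul_ne_zero n₁ (by rw [← e₂]; exact mul_ne_zero nw n₂)), ← e₁, ← e₂, ← hz]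
    ring
  have hX : HTop.IsSeminormal (Spec (CommRingCat.of A)) := fun x => by
    refine ⟨⟨⊤, isAffineOpen_top _⟩, trivial, ?_⟩
    exact AWNLib.isSeminormalRing_of_equiv (S := Γ(Spec (CommRingCat.of A), ⊤))
      (Scheme.ΓSpecIso (CommRingCat.of A)).commRingCatIsoToRingEquiv.symm hA
  haveI : AlgebraicGeometry.IsReduced (Spec (CommRingCat.of C)) := (affine_isReduced_iff _).mpr ‹_›
  haveI := AWNLib.isIso_of_residueFieldsIso (Spec.map (CommRingCat.ofHom ψ)) hu hr hX
  have hbij : Function.Bijective ψ :=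
    isIso_SpecMap_iff.mp (inferInstance : IsIso (Spec.map (CommRingCat.ofHom ψ)))
  obtain ⟨a, ha⟩ := hbij.2 (⟨b, Algebra.subset_adjoin rfl⟩ : C)
  exact ⟨a, congrArg Subtype.val ha⟩

end Groth.Agent.PtFunNormal
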